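import Cfsg.Agent.S0176
import Cfsg.Agent.S0899
import Cfsg.Agent.Lib.SmallDegree.PrimeNormal
import Cfsg.Agent.Lib.FrobeniusBound.Blichfeldt
import Cfsg.Agent.Lib.FrobeniusBound.Unitary
import Cfsg.Agent.Lib.SmallOrder.Auto
import Cfsg.Agent.Lib.CharTools.Basic

/-!
# Simple groups with an irreducible character of small degree
-/

set_option autoImplicit false

namespace CfsgLib.SmallCofactor

open Subgroup

universe u

variable {G : Type u} [Group G] [Finite G]

theorem not_isSolvable [IsSimpleGroup G] (hna : ¬ IsMulCommutative G) : ¬ Group.IsSolvable G :=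
  fun h => hna ⟨⟨IsSimpleGroup.comm_iff_isSolvable.2 h⟩⟩

/-- A nonprincipal irreducible character of a simple group is faithful. -/
theorem faithful_of_ne_one [IsSimpleGroup G] (χ : Cfsg.IrrCharacter G)
    (hne : (χ : G → ℂ) ≠ (fun _ => 1)) : ∀ g : G, (χ : G → ℂ) g = (χ : G → ℂ) 1 → g = 1 := by
  cases nonempty_fintype G
  have hchar := Char.IsIrrCharacter.isCharacter χ.2
  obtain ⟨N, hN, hmem, -⟩ := CharTools.exists_kernel hchar
  rcases hN.eq_bot_or_eq_top with h | h
  · intro g hg
    exact Subgroup.mem_bot.1 (h ▸ (hmem g).2 hg)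
  · exfalso
    have hconst : ∀ g, (χ : G → ℂ) g = (χ : G → ℂ) 1 := fun g =>
      (hmem g).1 (h ▸ Subgroup.mem_top g)
    have h0 : Cfsg.classInner (χ : G → ℂ) (fun _ => 1) = 0 :=
      Char.classInner_irr_of_ne χ.2 Char.isIrrCharacter_principal hne
    apply CharTools.irr_apply_one_ne_zero χ
    rw [Cfsg.classInner] at h0
    simp only [map_one, mul_one, hconst, Finset.sum_const, Finset.card_univ, nsmul_eq_mul,
      ← Nat.card_eq_fintype_card] at h0
    rwa [← mul_assoc, inv_mul_cancel₀ (Nat.cast_ne_zero.2 Nat.card_pos.ne'), one_mul] at h0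

theorem exists_injective {χ : G → ℂ} (hχ : Cfsg.IsCharacter G χ)
    (hf : ∀ g : G, χ g = χ 1 → g = 1) :
    ∃ ρ : Representation ℂ G (Fin (Cfsg.charDegree χ) → ℂ),
      Function.Injective ρ ∧ ρ.character = χ := by
  obtain ⟨n, ρ, rfl⟩ := hχ
  have hn : Cfsg.charDegree ρ.character = n := by
    rw [Cfsg.charDegree, Representation.char_one, Module.finrank_fin_fun]
    simp
  rw [hn]
  refine ⟨ρ, fun a b hab => ?_, rfl⟩
  refine mul_inv_eq_one.1 (hf (a * b⁻¹) ?_)
  show LinearMap.trace ℂ _ (ρ (a * b⁻¹)) = LinearMap.trace ℂ _ (ρ 1)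
  rw [map_mul, hab, ← map_mul, mul_inv_cancel]

/-- A group with a faithful character of degree `d` has a normal Sylow subgroup for every prime
above `2 * d + 1`. -/
theorem normal_sylow {χ : G → ℂ} (hχ : Cfsg.IsCharacter G χ)
    (hf : ∀ g : G, χ g = χ 1 → g = 1) {r : ℕ} [hr : Fact r.Prime]
    (hlt : 2 * Cfsg.charDegree χ + 1 < r) (P : Sylow r G) : (P : Subgroup G).Normal := by
  obtain ⟨ρ, hρ, -⟩ := exists_injective hχ hf
  refine Cfsg.Agent.S0899.result _ ρ hρ r (Or.inr ⟨by omega, fun K hK Q => ?_⟩) P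
  by_cases hrK : r ∣ Nat.card K
  · cases nonempty_fintype K
    have hQ : Nat.card (Q : Subgroup K) = r := by
      obtain ⟨m, hm⟩ := Q.2.exists_card_eq
      have h1 : Nat.card (Q : Subgroup K) ∣ Nat.card K := Subgroup.card_subgroup_dvd_card _
      have h2 : r ∣ Nat.card (Q : Subgroup K) := Q.dvd_card_of_dvd_card hrK
      rw [hm] at h1 h2 ⊢
      rcases m with _ | _ | m
      · rw [pow_zero] at h2; exact absurd h2 hr.out.not_dvd_one
      · rw [zero_add, pow_one]
      · exact absurd ((pow_dvd_pow r (by omega)).trans h1) hK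
    refine SmallDegree.normal_of_faithful_prime _ Q hQ rfl (fun x : K => χ x)
      (Char.IsCharacter.restrict hχ K) (fun g hg => Subtype.ext (hf _ (by simpa using hg))) ?_
    have : CfsgLib.Char.degree (fun x : K => χ x) = Cfsg.charDegree χ := rfl
    rw [this]
    omega
  · have : (Q : Subgroup K) = ⊥ := by
      rw [← Subgroup.card_eq_one]
      obtain ⟨m, hm⟩ := Q.2.exists_card_eq
      rcases m with _ | m
      · simpa using hm
      · exact absurd ((hm ▸ dvd_pow_self r (Nat.succ_ne_zero m)).trans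
          (Subgroup.card_subgroup_dvd_card _)) hrK
    rw [this]
    infer_instance

/-- The primes dividing the order of a simple group are small against a faithful degree. -/
theorem prime_le [IsSimpleGroup G] (hna : ¬ IsMulCommutative G) {χ : G → ℂ}
    (hχ : Cfsg.IsCharacter G χ) (hf : ∀ g : G, χ g = χ 1 → g = 1) {r : ℕ} (hr : r.Prime)
    (hdvd : r ∣ Nat.card G) : r ≤ 2 * Cfsg.charDegree χ + 1 := by
  by_contra hlt
  haveI := Fact.mk hr
  obtain ⟨P⟩ := (inferInstance : Nonempty (Sylow r G))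
  have htop := SmallOrder.normal_eq_top (normal_sylow hχ hf (by omega) P)
    (P.ne_bot_of_dvd_card hdvd)
  have hpG : IsPGroup r G := by
    have h := P.2
    rw [htop] at h
    exact h.of_equiv Subgroup.topEquiv
  haveI := hpG.isNilpotent
  exact not_isSolvable hna inferInstance

/-- A simple group of even order has no faithful character of degree two. -/
theorem degree_ne_two [IsSimpleGroup G] (hna : ¬ IsMulCommutative G) (heven : 2 ∣ Nat.card G)
    {χ : G → ℂ} (hχ : Cfsg.IsCharacter G χ) (hf : ∀ g : G, χ g = χ 1 → g = 1) :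
    Cfsg.charDegree χ ≠ 2 := by
  intro hd
  have hex := exists_injective hχ hf
  rw [hd] at hex
  obtain ⟨ρ, hρ, -⟩ := hex
  haveI : Fact (Nat.Prime 2) := ⟨Nat.prime_two⟩
  obtain ⟨t, ht⟩ := exists_prime_orderOf_dvd_card' 2 heven
  let Φ : G →* Matrix (Fin 2) (Fin 2) ℂ :=
    (LinearMap.toMatrixAlgEquiv' (R := ℂ) (n := Fin 2)).toMulEquiv.toMonoidHom.comp ρ
  have hΦ : Function.Injective Φ :=
    (LinearMap.toMatrixAlgEquiv' (R := ℂ) (n := Fin 2)).injective.comp hρ
  have hdet : ∀ g, (Φ g).det = 1 := by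
    intro g
    let f : G →* ℂˣ := MonoidHom.toHomUnits (Matrix.detMonoidHom.comp Φ)
    rcases SmallOrder.injective_or_eq_one f with h | h
    · exact absurd ⟨⟨fun a b => h (by rw [map_mul, map_mul, mul_comm])⟩⟩ hna
    · exact congrArg Units.val (DFunLike.congr_fun h g)
  set M := Φ t with hM
  have hsq : M * M = 1 := by
    have ht2 : t ^ 2 = 1 := by
      have := pow_orderOf_eq_one t
      rwa [ht] at this
    rw [hM, ← map_mul, ← pow_two, ht2, map_one]
  have hadj : M.adjugate = M := by
    have h := Matrix.mul_adjugate M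
    rw [hdet, one_smul] at h
    calc M.adjugate = M * M * M.adjugate := by rw [hsq, one_mul]
      _ = M := by rw [mul_assoc, h, mul_one]
  rw [Matrix.adjugate_fin_two] at hadj
  have h00 := congrFun (congrFun hadj 0) 0
  have h01 := congrFun (congrFun hadj 0) 1
  have h10 := congrFun (congrFun hadj 1) 0
  simp at h00 h01 h10
  have hscal : M = Matrix.scalar (Fin 2) (M 0 0) := by
    ext i j
    fin_cases i <;> fin_cases j <;> simp [h00, h01, h10]
    · linear_combination (-1 / 2 : ℂ) * h01
    · linear_combination (-1 / 2 : ℂ) * h10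
  have hc : t ∈ Subgroup.center G := Subgroup.mem_center_iff.2 fun g => hΦ (by
    rw [map_mul, map_mul, ← hM, hscal]
    exact (Matrix.scalar_commute (M 0 0) (fun r => Commute.all _ _) (Φ g)).eq.symm)
  rw [SmallOrder.center_eq_bot_of_not_comm hna, Subgroup.mem_bot] at hc
  rw [hc, orderOf_one] at ht
  omega

/-- Abelian subgroups of a simple linear group have bounded order. -/
theorem card_comm_le [IsSimpleGroup G] (hna : ¬ IsMulCommutative G) {χ : G → ℂ}
    (hχ : Cfsg.IsCharacter G χ) (hf : ∀ g : G, χ g = χ 1 → g = 1) (H : Subgroup G)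
    (hH : ∀ x ∈ H, ∀ y ∈ H, x * y = y * x) : Nat.card H ≤ 12 ^ Cfsg.charDegree χ := by
  cases nonempty_fintype G
  obtain ⟨ρ, hρ, -⟩ := exists_injective hχ hf
  obtain ⟨A, hA, hAc, hbound⟩ := FrobeniusBound.exists_isometric ρ hρ
  have hAbot : A = ⊥ := by
    rcases hA.eq_bot_or_eq_top with h | h
    · exact h
    · exact absurd ⟨⟨fun a b => hAc a (h ▸ Subgroup.mem_top a) b (h ▸ Subgroup.mem_top b)⟩⟩ hna
  have h := hbound H hH
  rwa [hAbot, Subgroup.bot_subgroupOf, Subgroup.index_bot] at h

/-- A `p`-subgroup with a faithful character of degree `n < 2 * p` has an abelian subgroup of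
index at most `p`. -/
theorem card_pSubgroup_le {n p : ℕ} [hp : Fact p.Prime] (hnp : n < 2 * p) {B : ℕ}
    (hsmall : Blichfeldt.Small n G)
    (hB : ∀ H : Subgroup G, (∀ x ∈ H, ∀ y ∈ H, x * y = y * x) → Nat.card H ≤ B)
    (S : Subgroup G) (hS : IsPGroup p S) : Nat.card S ≤ p * B := by
  classical
  cases nonempty_fintype S
  obtain ⟨F, deg, hdeg, hsum, hf⟩ := (hsmall.subgroup S).exists_family
  have hle : ∀ φ ∈ F, deg φ ≤ n := fun φ hφ =>
    le_trans (Finset.single_le_sum (fun _ _ => Nat.zero_le _) hφ) hsum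
  have hchd : ∀ φ : Cfsg.IrrCharacter S, Cfsg.charDegree (φ : S → ℂ) = deg φ := fun φ => by
    rw [Cfsg.charDegree, hdeg, Complex.natCast_re, Nat.floor_natCast]
  have hdeg' : ∀ φ ∈ F, deg φ = 1 ∨ deg φ = p := by
    intro φ hφ
    obtain ⟨k, hk⟩ := IsPGroup.iff_card.1 hS
    have h2 := CharTools.degree_dvd_card φ
    rw [hchd, hk] at h2
    obtain ⟨j, -, hj⟩ := (Nat.dvd_prime_pow hp.out).1 h2
    rcases j with _ | _ | j
    · exact Or.inl (by simpa using hj)
    · exact Or.inr (by simpa using hj)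
    · exfalso
      have h3 := hle φ hφ
      have h4 : p ^ 2 ≤ p ^ (j + 1 + 1) := Nat.pow_le_pow_right hp.out.pos (by omega)
      have h5 : 2 * p ≤ p ^ 2 := by
        rw [pow_two]; exact Nat.mul_le_mul_right p hp.out.two_le
      rw [← hj] at h4
      omega
  have hlin : ∀ φ ∈ F, deg φ = 1 → ∀ a b : S, (φ : S → ℂ) (a * b * a⁻¹ * b⁻¹) = (φ : S → ℂ) 1 := by
    intro φ hφ h1 a b
    obtain ⟨f, hf'⟩ := Char.IsCharacter.exists_linear (Char.IsIrrCharacter.isCharacter φ.2)
      (by rw [hdeg, h1, Nat.cast_one])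
    rw [hf', hf', map_one]
    simp only [map_mul, map_inv]
    rw [mul_comm (f a) (f b)]
    simp
  have key : ∃ H : Subgroup S, H.index ≤ p ∧ ∀ a ∈ H, ∀ b ∈ H, a * b = b * a := by
    by_cases hbig : ∃ φ₀ ∈ F, deg φ₀ = p
    · obtain ⟨φ₀, h0, hp0⟩ := hbig
      haveI := hS.isNilpotent
      obtain ⟨H, lam, hlam⟩ := Cfsg.Agent.S0176.result (φ₀ : S → ℂ) φ₀.2
      have hidx : H.index = p := by
        have h1 := hdeg φ₀
        rw [hlam, Char.indFun_apply_one, hp0] at h1
        simp at h1
        exact_mod_cast h1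
      haveI : H.Normal := by
        refine Subgroup.normal_of_index_eq_minFac_card ?_
        obtain ⟨k, hk⟩ := IsPGroup.iff_card.1 hS
        have hk0 : k ≠ 0 := fun h => by
          have := H.index_dvd_card
          rw [hk, hidx, h, pow_zero] at this
          exact hp.out.not_dvd_one this
        rw [hk, hidx, Nat.pow_minFac hk0, hp.out.minFac_eq]
      refine ⟨H, hidx.le, fun a ha b hb => ?_⟩
      rw [← mul_inv_eq_one, mul_inv_rev, ← mul_assoc]
      refine hf _ fun φ hφ => ?_
      rcases hdeg' φ hφ with h1 | h1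
      · exact hlin φ hφ h1 a b
      · have hφ0 : φ = φ₀ := by
          by_contra hne
          have h2 := Finset.sum_le_sum_of_subset (f := deg)
            (show ({φ, φ₀} : Finset _) ⊆ F by simp [Finset.insert_subset_iff, hφ, h0])
          rw [Finset.sum_pair hne, h1, hp0] at h2
          omega
        subst hφ0
        rw [hlam, Char.indFun_apply_one, map_one, Units.val_one, mul_one]
        unfold Cfsg.indFun
        beta_reduce
        have hterm : ∀ x : S, Cfsg.extendByZero H (fun h => (lam h : ℂ))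
            (x⁻¹ * (a * b * a⁻¹ * b⁻¹) * x) = 1 := by
          intro x
          have hm : ∀ z ∈ H, x⁻¹ * z * x ∈ H := fun z hz => by
            simpa using (inferInstance : H.Normal).conj_mem z hz x⁻¹
          let u : H := ⟨x⁻¹ * a * x, hm a ha⟩
          let v : H := ⟨x⁻¹ * b * x, hm b hb⟩
          have e : x⁻¹ * (a * b * a⁻¹ * b⁻¹) * x = ((u * v * u⁻¹ * v⁻¹ : H) : S) := by
            simp only [u, v, Subgroup.coe_mul, Subgroup.coe_inv]
            group
          rw [e]
          unfold Cfsg.extendByZero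
          rw [Subtype.val_injective.extend_apply]
          simp only [map_mul, map_inv]
          rw [mul_comm (lam u) (lam v)]
          simp
        rw [Finset.sum_congr rfl fun x _ => hterm x, Finset.sum_const, Finset.card_univ,
          nsmul_eq_mul, mul_one, ← Nat.card_eq_fintype_card, ← Subgroup.index_mul_card H]
        push_cast
        rw [mul_comm (H.index : ℂ), ← mul_assoc,
          inv_mul_cancel₀ (Nat.cast_ne_zero.2 Nat.card_pos.ne'), one_mul]
    · push Not at hbig
      refine ⟨⊤, by rw [Subgroup.index_top]; exact hp.out.one_le, fun a _ b _ => ?_⟩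
      rw [← mul_inv_eq_one, mul_inv_rev, ← mul_assoc]
      exact hf _ fun φ hφ => hlin φ hφ ((hdeg' φ hφ).resolve_right (hbig φ hφ)) a b
  obtain ⟨H, hidx, hHc⟩ := key
  have h1 : Nat.card (H.map S.subtype) ≤ B := hB _ (by
    rintro x ⟨a, ha, rfl⟩ y ⟨b, hb, rfl⟩
    exact congrArg S.subtype (hHc a ha b hb))
  rw [Subgroup.card_map_of_injective S.subtype_injective] at h1
  rw [← H.index_mul_card]
  exact Nat.mul_le_mul hidx h1

end CfsgLib.SmallCofactor
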