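import Mathlib.Tactic

/-!
# The degree equation with two odd prime divisors
-/

set_option autoImplicit false

namespace CfsgLib.SmallCofactor

theorem five_pow_mod (j : ℕ) : 5 ^ j % 4 = 1 := by simp [Nat.pow_mod]

theorem seven_pow_mod (j : ℕ) : 7 ^ j % 3 = 1 := by simp [Nat.pow_mod]

theorem le_two_cases {j : ℕ} (h : j ≤ 2) : j = 0 ∨ j = 1 ∨ j = 2 := by omega

/-- Three pairwise coprime nontrivial numbers need three primes. -/
theorem false_of_three (g r s k : ℕ) (hk : 1 ≤ k)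
    (hprimes : ∀ p : ℕ, p.Prime → p ∣ g → p = r ∨ p = s)
    (ha : 4 * k + 3 ∣ g) (hb : 2 * k + 1 ∣ g) (hc : k + 1 ∣ g) : False := by
  obtain ⟨p, hp, hpa⟩ := Nat.exists_prime_and_dvd (show 4 * k + 3 ≠ 1 by omega)
  obtain ⟨q, hq, hqb⟩ := Nat.exists_prime_and_dvd (show 2 * k + 1 ≠ 1 by omega)
  obtain ⟨l, hl, hlc⟩ := Nat.exists_prime_and_dvd (show k + 1 ≠ 1 by omega)
  have h1 : p ≠ q := by
    rintro rfl
    have := Nat.dvd_sub hpa (hqb.mul_left 2)
    rw [show 4 * k + 3 - 2 * (2 * k + 1) = 1 by omega] at this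
    exact hp.not_dvd_one this
  have h2 : p ≠ l := by
    rintro rfl
    have := Nat.dvd_sub (hlc.mul_left 4) hpa
    rw [show 4 * (k + 1) - (4 * k + 3) = 1 by omega] at this
    exact hp.not_dvd_one this
  have h3 : q ≠ l := by
    rintro rfl
    have := Nat.dvd_sub (hlc.mul_left 2) hqb
    rw [show 2 * (k + 1) - (2 * k + 1) = 1 by omega] at this
    exact hq.not_dvd_one this
  have := hprimes p hp (hpa.trans ha)
  have := hprimes q hq (hqb.trans hb)
  have := hprimes l hl (hlc.trans hc)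
  omega

theorem degrees_three_five {a b c i j i' j' l k : ℕ} (ha : a = 3 ^ i * 5 ^ j) (hj : j ≤ 2)
    (hb : b = 3 ^ i' * 5 ^ j') (hc : c = 3 ^ l * 5 ^ k) (ha4 : a ≠ 1)
    (hb4 : b % 4 = 3) (hc4 : c % 4 = 3) (he : b + c = a + 1) : a = 5 ∧ b = 3 ∧ c = 3 := by
  have hdvd : ∀ u v : ℕ, (3 ^ u * 5 ^ v) % 4 = 3 → 3 ∣ 3 ^ u * 5 ^ v := by
    intro u v h
    rcases u with _ | u
    · rw [pow_zero, one_mul, five_pow_mod] at h; omega
    · exact (dvd_pow_self 3 (Nat.succ_ne_zero u)).mul_right _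
  have h3b : 3 ∣ b := hb ▸ hdvd _ _ (hb ▸ hb4)
  have h3c : 3 ∣ c := hc ▸ hdvd _ _ (hc ▸ hc4)
  rcases i with _ | i
  · rcases le_two_cases hj with rfl | rfl | rfl <;> norm_num at ha <;> omega
  · have h3a : 3 ∣ a := ha ▸ (dvd_pow_self 3 (Nat.succ_ne_zero i)).mul_right _
    omega

theorem degrees_three_seven_aux {a c i j l k : ℕ} (ha : a = 3 ^ i * 7 ^ j) (hj : j ≤ 2)
    (hc : c = 3 ^ l * 7 ^ k) (hk : k ≤ 2) (ha4 : a % 4 = 1) (hc4 : c % 4 = 3)
    (he : a = c + 6) : a = 9 ∧ c = 3 := by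
  have h3 : ∀ u v : ℕ, 3 ∣ 3 ^ (u + 1) * 7 ^ v := fun u v =>
    (dvd_pow_self 3 (Nat.succ_ne_zero u)).mul_right _
  rcases l with _ | l
  · rcases le_two_cases hk with rfl | rfl | rfl <;> norm_num at hc <;>
      rcases i with _ | i <;>
        first
          | (rcases le_two_cases hj with rfl | rfl | rfl <;> norm_num at ha <;> omega)
          | (have := h3 i j; omega)
  rcases i with _ | i
  · have := h3 l k
    rcases le_two_cases hj with rfl | rfl | rfl <;> norm_num at ha <;> omega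
  rcases l with _ | l
  · rcases le_two_cases hk with rfl | rfl | rfl <;> norm_num at hc <;>
      rcases i with _ | _ | i <;>
        first
          | (rcases le_two_cases hj with rfl | rfl | rfl <;> norm_num at ha <;> omega)
          | (have : 27 ∣ a := ha ▸ (pow_dvd_pow 3 (by omega : 3 ≤ i + 1 + 1 + 1)).mul_right _
             omega)
  · have h9 : 9 ∣ c := hc ▸ (pow_dvd_pow 3 (by omega : 2 ≤ l + 1 + 1)).mul_right _
    rcases i with _ | i
    · rcases le_two_cases hj with rfl | rfl | rfl <;> norm_num at ha <;> omega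
    · have : 9 ∣ a := ha ▸ (pow_dvd_pow 3 (by omega : 2 ≤ i + 1 + 1)).mul_right _
      omega

theorem degrees_three_seven {a b c i j i' j' l k : ℕ} (ha : a = 3 ^ i * 7 ^ j) (hj : j ≤ 2)
    (hb : b = 3 ^ i' * 7 ^ j') (hj' : j' ≤ 2) (hc : c = 3 ^ l * 7 ^ k) (hk : k ≤ 2)
    (ha4 : a % 4 = 1) (hb4 : b % 4 = 3) (hc4 : c % 4 = 3) (he : b + c = a + 1) :
    a = 9 ∧ b * c = 21 := by
  have hdvd : ∀ u v : ℕ, v ≤ 2 → (3 ^ u * 7 ^ v) % 4 = 3 →
      3 ^ u * 7 ^ v = 7 ∨ 3 ∣ 3 ^ u * 7 ^ v := by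
    intro u v hv h
    rcases u with _ | u
    · rcases le_two_cases hv with rfl | rfl | rfl <;> revert h <;> norm_num
    · exact Or.inr ((dvd_pow_self 3 (Nat.succ_ne_zero u)).mul_right _)
  rcases hdvd _ _ hj' (hb ▸ hb4) with h | h
  · obtain ⟨h1, h2⟩ := degrees_three_seven_aux ha hj hc hk ha4 hc4 (by omega)
    exact ⟨h1, by rw [hb, h, h2]⟩
  rcases hdvd _ _ hk (hc ▸ hc4) with h' | h'
  · obtain ⟨h1, h2⟩ := degrees_three_seven_aux ha hj hb hj' ha4 hb4 (by omega)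
    exact ⟨h1, by rw [hc, h', h2]⟩
  exfalso
  rcases i with _ | i
  · rw [← hb] at h; rw [← hc] at h'
    have := seven_pow_mod j
    rw [pow_zero, one_mul] at ha
    omega
  · rw [← hb] at h; rw [← hc] at h'
    have : 3 ∣ a := ha ▸ (dvd_pow_self 3 (Nat.succ_ne_zero i)).mul_right _
    omega

theorem degrees_five_seven {a b c i j i' j' l k : ℕ} (ha : a = 5 ^ i * 7 ^ j)
    (hb : b = 5 ^ i' * 7 ^ j') (hc : c = 5 ^ l * 7 ^ k)
    (hbound : i ≤ 2 ∨ (j' ≤ 2 ∧ k ≤ 2)) (ha1 : a ≠ 1)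
    (hb4 : b % 4 = 3) (hc4 : c % 4 = 3) (he : b + c = a + 1) : False := by
  have hdvd : ∀ u v : ℕ, (5 ^ u * 7 ^ v) % 4 = 3 → 7 ∣ 5 ^ u * 7 ^ v := by
    intro u v h
    rcases v with _ | v
    · rw [pow_zero, mul_one, five_pow_mod] at h; omega
    · exact (dvd_pow_self 7 (Nat.succ_ne_zero v)).mul_left _
  have h7b : 7 ∣ b := hb ▸ hdvd _ _ (hb ▸ hb4)
  have h7c : 7 ∣ c := hc ▸ hdvd _ _ (hc ▸ hc4)
  rcases j with _ | j
  · rw [pow_zero, mul_one] at ha
    rcases i with _ | i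
    · rw [pow_zero] at ha; omega
    have h5a : 5 ∣ a := ha ▸ dvd_pow_self 5 (Nat.succ_ne_zero i)
    rcases hbound with hi | ⟨hj', hk⟩
    · rcases (show i = 0 ∨ i = 1 by omega) with rfl | rfl <;> norm_num at ha <;> omega
    · have h5 : ∀ u v : ℕ, v ≤ 2 → (5 ^ u * 7 ^ v) % 4 = 3 →
          5 ^ u * 7 ^ v = 7 ∨ 5 ∣ 5 ^ u * 7 ^ v := by
        intro u v hv h
        rcases u with _ | u
        · rcases le_two_cases hv with rfl | rfl | rfl <;> revert h <;> norm_num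
        · exact Or.inr ((dvd_pow_self 5 (Nat.succ_ne_zero u)).mul_right _)
      rcases h5 _ _ hj' (hb ▸ hb4) with h | h <;> rw [← hb] at h <;>
        rcases h5 _ _ hk (hc ▸ hc4) with h' | h' <;> rw [← hc] at h' <;> omega
  · have : 7 ∣ a := ha ▸ (dvd_pow_self 7 (Nat.succ_ne_zero j)).mul_left _
    omega

end CfsgLib.SmallCofactor
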