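import Cfsg.Agent.S4504
import Cfsg.Agent.Lib.SmallCofactor.Basic
import Cfsg.Agent.Lib.Present.BinIcosahedral

/-!
# Simple groups with a faithful character of degree three and few prime divisors
-/

set_option autoImplicit false

namespace CfsgLib.SmallCofactor

open Subgroup

universe u

variable {G : Type u} [Group G] [Finite G]

/-- The `p`-part of the order of a simple group of degree three. -/
theorem prime_pow_le [IsSimpleGroup G] (hna : ¬ IsMulCommutative G) {χ : G → ℂ}
    (hχ : Cfsg.IsCharacter G χ) (hf : ∀ g : G, χ g = χ 1 → g = 1) (h3 : Cfsg.charDegree χ = 3)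
    {p i m : ℕ} (hp : p.Prime) (hG : Nat.card G = p ^ i * m) (hm : ¬ p ∣ m) :
    p ^ i ≤ p * 12 ^ 3 := by
  haveI := Fact.mk hp
  obtain ⟨P⟩ := (inferInstance : Nonempty (Sylow p G))
  rw [← SmallOrder.card_sylow_eq hG hm P, ← h3]
  exact card_pSubgroup_le (by rw [h3]; have := hp.two_le; omega)
    (Blichfeldt.small_of_charDegree hχ hf rfl) (fun H hH => card_comm_le hna hχ hf H hH) P P.2

/-- For a simple group of degree three the Sylow subgroups of order `49` intersect trivially. -/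
theorem card_sylow_seven [IsSimpleGroup G] (hna : ¬ IsMulCommutative G) {χ : G → ℂ}
    (hχ : Cfsg.IsCharacter G χ) (hf : ∀ g : G, χ g = χ 1 → g = 1) (h3 : Cfsg.charDegree χ = 3)
    [Fact (Nat.Prime 7)] {m : ℕ} (hG : Nat.card G = 7 ^ 2 * m) (hm : ¬ 7 ∣ m) :
    Nat.card (Sylow 7 G) ≡ 1 [MOD 7 ^ 2] := by
  classical
  cases nonempty_fintype G
  by_contra hcon
  obtain ⟨P, R, hPR, hidx⟩ := SmallOrder.exists_sylow_pair 7 2 hcon
  have hP := SmallOrder.card_sylow_eq hG hm P
  have hR := SmallOrder.card_sylow_eq hG hm R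
  obtain ⟨z, hzP, hzR, hz1⟩ : ∃ z : G, z ∈ (P : Subgroup G) ∧ z ∈ (R : Subgroup G) ∧ z ≠ 1 := by
    by_contra! hno
    have hbot : (R : Subgroup G).subgroupOf (P : Subgroup G) = ⊥ := by
      rw [eq_bot_iff]
      intro x hx
      exact Subgroup.mem_bot.2 (Subtype.ext (hno x x.2 hx))
    rw [hbot, Subgroup.index_bot, hP] at hidx
    norm_num at hidx
  set C := Subgroup.centralizer ({z} : Set G) with hC
  have hle : ∀ Q : Sylow 7 G, Nat.card (Q : Subgroup G) = 7 ^ 2 → z ∈ (Q : Subgroup G) →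
      (Q : Subgroup G) ≤ C := by
    intro Q hQ hzQ x hx
    haveI := SmallOrder.isMulCommutative_of_card_eq_prime_or_sq Q (Or.inr hQ)
    exact Subgroup.mem_centralizer_singleton_iff.2
      (congrArg Subtype.val (mul_comm' (⟨x, hx⟩ : (Q : Subgroup G)) ⟨z, hzQ⟩))
  let PC : Sylow 7 C := P.subtype (hle P hP hzP)
  let RC : Sylow 7 C := R.subtype (hle R hR hzR)
  have hPCnormal : (PC : Subgroup C).Normal := by
    set θ : C → ℂ := fun x => χ x with hθ
    have hθc : Cfsg.IsCharacter C θ := Char.IsCharacter.restrict hχ C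
    have hθd : Cfsg.charDegree θ = 3 := h3
    obtain ⟨mu, hmu, hsum⟩ := CharTools.exists_degree_combination hθc
    have hcomb := Char.IsCharacter.eq_sum_classInner hθc
    simp only [hmu] at hcomb
    have hbound : ∀ ψ : Cfsg.IrrCharacter C, mu ψ ≠ 0 → Cfsg.charDegree (ψ : C → ℂ) ≤ 2 := by
      intro ψ hψ
      by_contra hlt
      have hterm : ∀ φ : Cfsg.IrrCharacter C, φ ≠ ψ →
          mu φ * Cfsg.charDegree (φ : C → ℂ) + mu ψ * Cfsg.charDegree (ψ : C → ℂ) ≤ 3 := by
        intro φ hne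
        rw [← hθd, hsum]
        have := Finset.sum_le_sum_of_subset (f := fun ψ => mu ψ * Cfsg.charDegree (ψ : C → ℂ))
          (Finset.subset_univ ({φ, ψ} : Finset (Cfsg.IrrCharacter C)))
        rwa [Finset.sum_pair hne] at this
      have h1 : mu ψ * Cfsg.charDegree (ψ : C → ℂ) ≤ 3 := by
        rw [← hθd, hsum]
        exact Finset.single_le_sum (f := fun ψ => mu ψ * Cfsg.charDegree (ψ : C → ℂ))
          (fun _ _ => Nat.zero_le _) (Finset.mem_univ ψ)
      have h31 : mu ψ = 1 ∧ Cfsg.charDegree (ψ : C → ℂ) = 3 := by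
        have h2 : 3 ≤ Cfsg.charDegree (ψ : C → ℂ) := by omega
        rcases Nat.lt_or_ge (mu ψ) 2 with h | h
        · have hmu1 : mu ψ = 1 := by omega
          rw [hmu1, one_mul] at h1
          exact ⟨hmu1, by omega⟩
        · have := Nat.mul_le_mul h h2
          omega
      have hzero : ∀ φ : Cfsg.IrrCharacter C, φ ≠ ψ → mu φ = 0 := by
        intro φ hne
        have h := hterm φ hne
        rw [h31.1, h31.2] at h
        have hpos := CharTools.irr_degree_pos φ
        rcases Nat.eq_zero_or_pos (mu φ) with h0 | h0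
        · exact h0
        · have := Nat.mul_pos h0 hpos
          omega
      have hθψ : θ = (ψ : C → ℂ) := by
        rw [hcomb, Finset.sum_eq_single ψ (fun φ _ hne => by rw [hzero φ hne, Nat.cast_zero, zero_smul])
          (fun h => absurd (Finset.mem_univ ψ) h), h31.1, Nat.cast_one, one_smul]
      have hzC : (⟨z, hle P hP hzP hzP⟩ : C) ∈ Subgroup.center C :=
        Subgroup.mem_center_iff.2 fun g => Subtype.ext (Subgroup.mem_centralizer_singleton_iff.1 g.2)
      have hnorm := CharTools.norm_apply_center ψ hzC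
      rw [← hθψ, hθd] at hnorm
      obtain ⟨ρ, hρ, hρχ⟩ := exists_injective hχ hf
      have hnorm' : ‖ρ.character z‖ = 3 := by
        rw [hρχ]; exact_mod_cast hnorm
      have hscal := Char.eq_smul_id_of_character_eq ρ z (ρ.character z / 3)
        (by rw [norm_div, hnorm']; norm_num)
        (by
          rw [Module.finrank_fin_fun,
            show ((Cfsg.charDegree χ : ℕ) : ℂ) = 3 by rw [h3]; norm_num]
          ring)
      have hzc : z ∈ Subgroup.center G := Subgroup.mem_center_iff.2 fun g => hρ (by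
        rw [map_mul, map_mul, hscal]
        simp [LinearMap.ext_iff])
      rw [SmallOrder.center_eq_bot_of_not_comm hna, Subgroup.mem_bot] at hzc
      exact hz1 hzc
    choose N hN hNmem hNmul using fun ψ : Cfsg.IrrCharacter C =>
      CharTools.exists_kernel (Char.IsIrrCharacter.isCharacter ψ.2)
    let M : Subgroup C := ⨅ ψ : {ψ : Cfsg.IrrCharacter C // mu ψ ≠ 0},
      ((PC : Subgroup C).map (haveI := hN ψ.1; QuotientGroup.mk' (N ψ.1))).comap
        (haveI := hN ψ.1; QuotientGroup.mk' (N ψ.1))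
    have hMn : M.Normal := by
      refine Subgroup.normal_iInf_normal fun ψ => ?_
      haveI := hN ψ.1
      haveI : Fact (Nat.Prime 7) := inferInstance
      obtain ⟨ψ', hψ'⟩ := CharTools.exists_descend (N ψ.1) ψ.1.2 fun n hn => (hNmem ψ.1 n).1 hn
      have hf' : ∀ g : C ⧸ N ψ.1, (ψ' : C ⧸ N ψ.1 → ℂ) g = (ψ' : C ⧸ N ψ.1 → ℂ) 1 → g = 1 := by
        intro g hg
        obtain ⟨g, rfl⟩ := QuotientGroup.mk_surjective g
        rw [← QuotientGroup.mk_one, hψ', hψ'] at hg
        exact (QuotientGroup.eq_one_iff g).2 ((hNmem ψ.1 g).2 hg)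
      have hd : Cfsg.charDegree (ψ' : C ⧸ N ψ.1 → ℂ) = Cfsg.charDegree (ψ.1 : C → ℂ) := by
        rw [Cfsg.charDegree, ← QuotientGroup.mk_one, hψ']; rfl
      have hnor := normal_sylow (Char.IsIrrCharacter.isCharacter ψ'.2) hf' (r := 7)
        (by rw [hd]; have := hbound ψ.1 ψ.2; omega)
        (PC.mapSurjective (QuotientGroup.mk'_surjective (N ψ.1)))
      rw [Sylow.coe_mapSurjective] at hnor
      exact hnor.comap _
    have hPM : (PC : Subgroup C) ≤ M := le_iInf fun ψ => Subgroup.le_comap_map _ _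
    have hMp : IsPGroup 7 M := by
      intro x
      obtain ⟨k, hk⟩ := PC.2.exists_card_eq
      refine ⟨k, Subtype.ext (Subtype.ext (hf _ ?_))⟩
      show θ (((x : C)) ^ 7 ^ k) = θ 1
      rw [hcomb]
      simp only [Finset.sum_apply, Pi.smul_apply, smul_eq_mul]
      refine Finset.sum_congr rfl fun ψ _ => ?_
      by_cases h0 : mu ψ = 0
      · simp [h0]
      · congr 1
        haveI := hN ψ
        have hx := Subgroup.mem_iInf.1 x.2 ⟨ψ, h0⟩
        obtain ⟨y, hy, hyx⟩ := Subgroup.mem_map.1 (Subgroup.mem_comap.1 hx)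
        refine (hNmem ψ _).1 ((QuotientGroup.eq_one_iff _).1 ?_)
        have hy1 : (⟨y, hy⟩ : (PC : Subgroup C)) ^ 7 ^ k = 1 := by
          rw [← hk]; exact pow_card_eq_one'
        show (QuotientGroup.mk' (N ψ)) ((x : C) ^ 7 ^ k) = 1
        rw [map_pow, ← hyx, ← map_pow]
        have : y ^ 7 ^ k = 1 := congrArg Subtype.val hy1
        rw [this, map_one]
    rw [← PC.3 hMp hPM]
    exact hMn
  haveI := hPCnormal
  have he : PC = RC := by
    obtain ⟨c, hc⟩ := MulAction.exists_smul_eq C PC RC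
    rw [← hc, Sylow.smul_eq_of_normal]
  refine hPR (Sylow.ext (Subgroup.eq_of_le_of_card_ge (fun x hx => ?_) (le_of_eq (hR.trans hP.symm))))
  have h1 : (⟨x, hle P hP hzP hx⟩ : C) ∈ (RC : Subgroup C) := he ▸ hx
  exact h1

theorem psl_seven [IsSimpleGroup G] (hna : ¬ IsMulCommutative G) {χ : G → ℂ}
    (hχ : Cfsg.IsCharacter G χ) (hf : ∀ g : G, χ g = χ 1 → g = 1) (h3 : Cfsg.charDegree χ = 3)
    (hdiv : 7 ∣ Nat.card G) (hsq : ¬ 7 ^ 2 ∣ Nat.card G) (hne : Nat.card G ≠ 7) :
    Nonempty (G ≃* Matrix.ProjectiveSpecialLinearGroup (Fin 2) (ZMod 7)) := by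
  obtain ⟨e⟩ := Cfsg.Agent.S4504.result 7 (by norm_num) hdiv hsq (fun H hH hc => by
    rcases hH.eq_bot_or_eq_top with h | h <;> rw [h] at hc
    · simp at hc
    · exact hne (by simpa using hc)) χ hχ hf (by rw [h3])
  exact ⟨(QuotientGroup.quotientBot.symm.trans (QuotientGroup.quotientMulEquivOfEq
    (SmallOrder.center_eq_bot_of_not_comm hna).symm)).trans e⟩

theorem alternating_five [IsSimpleGroup G] (hna : ¬ IsMulCommutative G) (h : Nat.card G = 60) :
    Nonempty (G ≃* alternatingGroup (Fin 5)) :=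
  CfsgLib.Present.nonsolvable_sixty h (not_isSolvable hna)

theorem eq_seven_of_case_three [IsSimpleGroup G] (hna : ¬ IsMulCommutative G) {χ : G → ℂ}
    (hχ : Cfsg.IsCharacter G χ) (hf : ∀ g : G, χ g = χ 1 → g = 1) (h3 : Cfsg.charDegree χ = 3)
    {i r y : ℕ} (hi : 3 ≤ i) (hr : r = 5 ∨ r = 7) (hy : y = 1 ∨ y = 2)
    (hG : Nat.card G = 3 * 2 ^ i * r ^ y) : r = 7 ∧ y = 1 := by
  have hb : 2 ^ i ≤ 2 * 12 ^ 3 := prime_pow_le hna hχ hf h3 Nat.prime_two
    (m := 3 * r ^ y) (by rw [hG]; ring)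
    (by rcases hr with rfl | rfl <;> rcases hy with rfl | rfl <;> norm_num)
  have hi' : i ≤ 11 := by
    by_contra h
    have : 2 ^ 12 ≤ 2 ^ i := Nat.pow_le_pow_right (by norm_num) (by omega)
    omega
  rcases hr with rfl | rfl <;> rcases hy with rfl | rfl
  · exfalso
    interval_cases i <;> exact SmallOrder.card_ne_of_orderExcluded hna (by decide +kernel) hG
  · exfalso
    interval_cases i <;> exact SmallOrder.card_ne_of_orderExcluded hna (by decide +kernel) hG
  · exact ⟨rfl, rfl⟩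
  · exfalso
    haveI : Fact (Nat.Prime 7) := ⟨by norm_num⟩
    have hm : ¬ 7 ∣ 3 * 2 ^ i := by
      rw [Nat.Prime.dvd_mul (by norm_num), not_or]
      exact ⟨by norm_num, fun h => absurd ((Nat.prime_dvd_prime_iff_eq (by norm_num)
        Nat.prime_two).1 ((by norm_num : Nat.Prime 7).dvd_of_dvd_pow h)) (by norm_num)⟩
    have hG' : Nat.card G = 7 ^ 2 * (3 * 2 ^ i) := by rw [hG]; ring
    obtain ⟨hd, -, h1, -⟩ := SmallOrder.card_sylow_facts (p := 7) hG' hm two_pos
      (Nat.lt_of_lt_of_le (by norm_num) (Nat.le_mul_of_pos_right 3 (by positivity)))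
    have hmod : Nat.card (Sylow 7 G) % 49 = 1 := card_sylow_seven hna hχ hf h3 hG' hm
    obtain ⟨a, b, ha, hb', hab⟩ := Nat.dvd_mul.1 hd
    obtain ⟨j, hj, rfl⟩ := (Nat.dvd_prime_pow Nat.prime_two).1 hb'
    have hj' : j ≤ 11 := hj.trans hi'
    rcases (Nat.dvd_prime Nat.prime_three).1 ha with rfl | rfl <;>
      rw [← hab] at h1 hmod <;> interval_cases j <;> omega

theorem false_of_case_four [IsSimpleGroup G] (hna : ¬ IsMulCommutative G) {χ : G → ℂ}
    (hχ : Cfsg.IsCharacter G χ) (hf : ∀ g : G, χ g = χ 1 → g = 1) (h3 : Cfsg.charDegree χ = 3)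
    {x : ℕ} (hx : 2 ≤ x) (hG : Nat.card G = 4 * 3 ^ x * 5) : False := by
  have hb : 3 ^ x ≤ 3 * 12 ^ 3 := prime_pow_le hna hχ hf h3 Nat.prime_three
    (m := 4 * 5) (by rw [hG]; ring) (by norm_num)
  have hx' : x ≤ 7 := by
    by_contra h
    have : 3 ^ 8 ≤ 3 ^ x := Nat.pow_le_pow_right (by norm_num) (by omega)
    omega
  interval_cases x <;> exact SmallOrder.card_ne_of_orderExcluded hna (by decide +kernel) hG

end CfsgLib.SmallCofactor
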