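import Cfsg.Agent.S0948
import Cfsg.Agent.S4479
import Cfsg.Agent.S4480
import Cfsg.Agent.Lib.InvChar.KleinSimple.Main
import Cfsg.Agent.Lib.SmallCofactor.Basic
import Cfsg.Agent.Lib.SmallCofactor.Arith

/-!
# Simple groups of order four times two odd prime powers
-/

set_option autoImplicit false

namespace CfsgLib.SmallCofactor

open Subgroup

universe u

variable {G : Type u} [Group G] [Finite G]

theorem irr_degree_ne_one [IsSimpleGroup G] (hna : ¬ IsMulCommutative G)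
    (χ : Cfsg.IrrCharacter G) (hne : (χ : G → ℂ) ≠ (fun _ => 1)) :
    Cfsg.charDegree (χ : G → ℂ) ≠ 1 := by
  intro h
  obtain ⟨f, hf⟩ := Char.IsCharacter.exists_linear (Char.IsIrrCharacter.isCharacter χ.2)
    (by rw [← CharTools.irr_degree_cast χ, h, Nat.cast_one])
  have hinj : Function.Injective f := fun a b hab => by
    refine mul_inv_eq_one.1 (faithful_of_ne_one χ hne _ ?_)
    rw [hf, hf, map_mul, hab, ← map_mul, mul_inv_cancel]
  exact hna ⟨⟨fun a b => hinj (by rw [map_mul, map_mul, mul_comm])⟩⟩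

theorem exists_exponents {q r A B d : ℕ} (hq : q.Prime) (hr : r.Prime)
    (hd : d ∣ 4 * (q ^ A * r ^ B)) (hodd : Odd d) : ∃ i j, i ≤ A ∧ j ≤ B ∧ d = q ^ i * r ^ j := by
  have h4 : Nat.Coprime d 4 := (Nat.coprime_two_right.2 hodd).pow_right 2
  obtain ⟨a, b, ha, hb, rfl⟩ := Nat.dvd_mul.1 (h4.dvd_of_dvd_mul_left hd)
  obtain ⟨i, hi, rfl⟩ := (Nat.dvd_prime_pow hq).1 ha
  obtain ⟨j, hj, rfl⟩ := (Nat.dvd_prime_pow hr).1 hb
  exact ⟨i, j, hi, hj, rfl⟩

theorem prime_mem {q r A B p : ℕ} (hq : q.Prime) (hr : r.Prime) (hp : p.Prime)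
    (hd : p ∣ q ^ A * r ^ B) : p = q ∨ p = r := by
  rcases hp.dvd_mul.1 hd with h | h
  · exact Or.inl ((Nat.prime_dvd_prime_iff_eq hp hq).1 (hp.dvd_of_dvd_pow h))
  · exact Or.inr ((Nat.prime_dvd_prime_iff_eq hp hr).1 (hp.dvd_of_dvd_pow h))

/-- The principal 2-block pins down the order of a simple group of order `4 * q ^ A * r ^ B`. -/
theorem klein_main [IsSimpleGroup G] (hna : ¬ IsMulCommutative G) {q r A B : ℕ}
    (hpair : (q = 3 ∧ r = 5 ∧ B ≤ 2) ∨ (q = 3 ∧ r = 7 ∧ B ≤ 2) ∨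
      (q = 5 ∧ r = 7 ∧ (A ≤ 2 ∨ B ≤ 2)))
    (hA : 1 ≤ A) (hB : 1 ≤ B) (hG : Nat.card G = 4 * (q ^ A * r ^ B)) :
    q = 3 ∧ r = 5 ∧ B = 1 ∧ ∃ χ : Cfsg.IrrCharacter G,
      (χ : G → ℂ) ≠ (fun _ => 1) ∧ Cfsg.charDegree (χ : G → ℂ) = 3 := by
  classical
  obtain ⟨hq, hr, hoq, hor⟩ : q.Prime ∧ r.Prime ∧ Odd q ∧ Odd r := by
    rcases hpair with ⟨rfl, rfl, -⟩ | ⟨rfl, rfl, -⟩ | ⟨rfl, rfl, -⟩ <;>
      refine ⟨by norm_num, by norm_num, by decide, by decide⟩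
  set g₀ := q ^ A * r ^ B with hg₀def
  have hg₀ : Odd g₀ := hoq.pow.mul hor.pow
  have hgt : 1 < g₀ := by
    calc 1 < q ^ A := Nat.one_lt_pow (by omega) hq.one_lt
      _ ≤ g₀ := Nat.le_mul_of_pos_right _ (pow_pos hr.pos _)
  have hnc : ¬ ∃ N : Subgroup G, N.Normal ∧ Nat.card N = g₀ := by
    rintro ⟨N, hN, hc⟩
    rcases hN.eq_bot_or_eq_top with h | h <;> rw [h] at hc
    · simp at hc; omega
    · rw [Subgroup.card_top, hG] at hc; omega
  haveI : Fact (Nat.Prime 2) := ⟨Nat.prime_two⟩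
  obtain ⟨P⟩ := (inferInstance : Nonempty (Sylow 2 G))
  obtain ⟨J, hJ, hJ2⟩ : ∃ J ∈ (P : Subgroup G), orderOf J = 2 := by
    obtain ⟨x, hx⟩ := exists_prime_orderOf_dvd_card' (G := (P : Subgroup G)) 2
      (P.dvd_card_of_dvd_card ⟨2 * g₀, by rw [hG]; ring⟩)
    exact ⟨x, x.2, by rw [Subgroup.orderOf_coe, hx]⟩
  obtain ⟨hK, -, hone'⟩ := CfsgLib.Invol.KleinOrder.setting g₀ hg₀ hG hnc P hJ hJ2
  have hone : ∀ s t : G, orderOf s = 2 → orderOf t = 2 → IsConj s t := fun s t hs ht =>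
    (hone' s hs).symm.trans (hone' t ht)
  obtain ⟨M, hM⟩ := CfsgLib.BlockReg.exists_isPModular Nat.prime_two
  obtain ⟨ζ₂, ζ₃, ζ₄, ε, hε, hn2, hn3, h23, h24, h34, hB', hval, hm2, hm3, hm4, hsum⟩ :=
    Cfsg.Agent.S0948.result M hM P hK hone
  obtain ⟨hv2, hv3, hv4⟩ := hval J hJ2
  have hn4 : (ζ₄ : G → ℂ) ≠ (fun _ => 1) := fun h => by
    have := congrFun h J
    rw [hv4] at this
    norm_num at this
  set a := Cfsg.charDegree (ζ₂ : G → ℂ) with ha
  set b := Cfsg.charDegree (ζ₃ : G → ℂ) with hb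
  set c := Cfsg.charDegree (ζ₄ : G → ℂ) with hc
  have hdeg : (1 : ℤ) + a + ε * b - c = 0 := by
    have h := hsum 1 (by rw [orderOf_one]; decide)
    rw [← CharTools.irr_degree_cast, ← CharTools.irr_degree_cast, ← CharTools.irr_degree_cast,
      ← ha, ← hb, ← hc] at h
    exact_mod_cast h
  have hdvd : ∀ χ : Cfsg.IrrCharacter G, Cfsg.charDegree (χ : G → ℂ) ∣ 4 * g₀ := fun χ =>
    hG ▸ CharTools.degree_dvd_card χ
  have hd : ∀ χ : Cfsg.IrrCharacter G, Odd (Cfsg.charDegree (χ : G → ℂ)) →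
      ∃ i j, i ≤ A ∧ j ≤ B ∧ Cfsg.charDegree (χ : G → ℂ) = q ^ i * r ^ j := fun χ h =>
    exists_exponents hq hr (hdvd χ) h
  have hcP4 : 4 ∣ Nat.card (Subgroup.centralizer ((P : Subgroup G) : Set G)) := by
    rw [← IsKleinFour.card_four (G := (P : Subgroup G))]
    refine Subgroup.card_dvd_of_le fun x hx => Subgroup.mem_centralizer_iff.2 fun y hy => ?_
    exact congrArg Subtype.val (mul_comm_of_exponent_two IsKleinFour.exponent_two
      (⟨y, hy⟩ : (P : Subgroup G)) ⟨x, hx⟩)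
  have hB4 : Cfsg.principalBlock M G = {χ : Cfsg.IrrCharacter G |
      (χ : G → ℂ) = (fun _ => 1) ∨ χ = ζ₂ ∨ χ = ζ₃ ∨ χ = ζ₄} := hB'
  rcases hε with rfl | rfl
  · exfalso
    obtain ⟨m, -, hcard⟩ := Cfsg.Agent.S4480.result M hM g₀ hg₀ hG hnc P J hJ hJ2 ζ₂ ζ₃ ζ₄ 1 1 (-1)
      hB4 ⟨hn2, hn3, hn4, h23, h24, h34⟩ ⟨Or.inl rfl, Or.inl rfl, Or.inr rfl⟩
      ⟨by rw [hv2, Int.cast_one], by rw [hv3], by rw [hv4, Int.cast_neg, Int.cast_one]⟩
      (by norm_num) rfl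
    have h2 := irr_degree_ne_one hna ζ₂ hn2
    have h3 := irr_degree_ne_one hna ζ₃ hn3
    have h2' := CharTools.irr_degree_pos ζ₂
    have h3' := CharTools.irr_degree_pos ζ₃
    obtain ⟨w, hw⟩ := hcP4
    rw [← hc, hw, hG] at hcard
    obtain ⟨k, hk⟩ : ∃ k, c = 4 * k + 3 := ⟨c / 4, by omega⟩
    have hpow : c ^ 3 - c = 8 * ((4 * k + 3) * ((2 * k + 1) * (k + 1))) := by
      apply Nat.sub_eq_of_eq_add
      rw [hk]; ring
    have key : g₀ = m ^ 3 * w * ((4 * k + 3) * ((2 * k + 1) * (k + 1))) := by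
      rw [hpow] at hcard
      refine Nat.eq_of_mul_eq_mul_left (show 0 < 32 by norm_num) ?_
      linear_combination hcard
    refine false_of_three g₀ q r k (by omega)
      (fun p hp hpd => prime_mem hq hr hp hpd) ?_ ?_ ?_
    · exact key ▸ Dvd.dvd.mul_left (Dvd.intro _ rfl) _
    · exact key ▸ Dvd.dvd.mul_left (Dvd.dvd.mul_left (Dvd.intro _ rfl) _) _
    · exact key ▸ Dvd.dvd.mul_left (Dvd.dvd.mul_left (Dvd.intro_left _ rfl) _) _
  -- signs `+, -, -`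
  have he : b + c = a + 1 := by omega
  have ha4 : a % 4 = 1 := by omega
  have hb4 : b % 4 = 3 := by omega
  have hc4 : c % 4 = 3 := by omega
  have ha1 : a ≠ 1 := irr_degree_ne_one hna ζ₂ hn2
  obtain ⟨i, j, hi, hj, hae⟩ := hd ζ₂ (Nat.odd_iff.2 (by omega))
  obtain ⟨i', j', hi', hj', hbe⟩ := hd ζ₃ (Nat.odd_iff.2 (by omega))
  obtain ⟨l, k, hl, hk, hce⟩ := hd ζ₄ (Nat.odd_iff.2 (by omega))
  rw [← ha] at hae; rw [← hb] at hbe; rw [← hc] at hce
  have hformula := Cfsg.Agent.S4479.result M hM g₀ hg₀ hG hnc P J hJ hJ2 ζ₂ ζ₃ ζ₄ 1 (-1) (-1)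
    hB4 ⟨hn2, hn3, hn4, h23, h24, h34⟩ ⟨Or.inl rfl, Or.inr rfl, Or.inr rfl⟩
    ⟨by rw [hv2, Int.cast_one], by rw [hv3], by rw [hv4, Int.cast_neg, Int.cast_one]⟩
  rw [← ha, ← hb, ← hc] at hformula
  set cJ := Nat.card (Subgroup.centralizer ({J} : Set G)) with hcJ
  set cP := Nat.card (Subgroup.centralizer ((P : Subgroup G) : Set G)) with hcP
  have hcP0 : (cP : ℚ) ≠ 0 := Nat.cast_ne_zero.2 Nat.card_pos.ne'
  rcases hpair with ⟨rfl, rfl, hB2⟩ | ⟨rfl, rfl, hB2⟩ | ⟨rfl, rfl, hAB⟩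
  · obtain ⟨ea, eb, ec⟩ := degrees_three_five hae (hj.trans hB2) hbe hce ha1 hb4 hc4 he
    refine ⟨rfl, rfl, ?_, ζ₃, hn3, eb⟩
    -- the centralizer of the four-group is itself
    have hv3' : ∀ v : G, orderOf v = 2 → (ζ₃ : G → ℂ) v = -1 := fun v hv => by
      rw [(hval v hv).2.1]; norm_num
    have hmem3 : ζ₃ ∈ CfsgLib.Invol.BlockCol.pBlock M G := by
      rw [CfsgLib.Invol.BlockCol.mem_pBlock, hB4]; exact Or.inr (Or.inr (Or.inl rfl))
    have hP2 : ∀ v ∈ (P : Subgroup G), v ≠ 1 → orderOf v = 2 := fun v hv h1 =>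
      CfsgLib.Invol.orderOf_eq_two h1
        (congrArg Subtype.val (IsKleinFour.mul_self (⟨v, hv⟩ : (P : Subgroup G))))
    have hPle : (P : Subgroup G) ≤ Subgroup.centralizer ((P : Subgroup G) : Set G) := fun x hx =>
      Subgroup.mem_centralizer_iff.2 fun y hy =>
        congrArg Subtype.val (mul_comm_of_exponent_two IsKleinFour.exponent_two
          (⟨y, hy⟩ : (P : Subgroup G)) ⟨x, hx⟩)
    have hCp : IsPGroup 2 (Subgroup.centralizer ((P : Subgroup G) : Set G)) := by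
      intro g
      obtain ⟨e, n', hn', hn⟩ := Nat.exists_eq_pow_mul_and_not_dvd (orderOf_pos g).ne' 2 (by norm_num)
      refine ⟨e, Subtype.ext ?_⟩
      have ho : ¬ 2 ∣ orderOf ((g : G) ^ 2 ^ e) := by
        rw [← Subgroup.orderOf_coe] at hn
        rw [orderOf_pow' _ (pow_ne_zero e two_ne_zero), hn,
          Nat.gcd_eq_right (Dvd.intro n' rfl), Nat.mul_div_cancel_left _ (pow_pos two_pos e)]
        exact hn'
      refine CfsgLib.InvChar.KleinSimple.eq_one_of_degree_three hJ2 (P : Subgroup G)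
        IsKleinFour.card_four hJ hP2 ζ₃ eb hv3' fun v hv hv1 => ?_
      have hcomm : Commute v ((g : G) ^ 2 ^ e) :=
        (show Commute v (g : G) from Subgroup.mem_centralizer_iff.1 g.2 v hv).pow_right _
      rw [SubgroupClass.coe_pow, CfsgLib.Invol.KleinBlock.apply_singular P hK hM hmem3 (hP2 v hv hv1) hcomm ho,
        hv3' v (hP2 v hv hv1)]
    have hcPeq : cP = 4 := by
      rw [hcP, P.3 hCp hPle, IsKleinFour.card_four]
    rw [hcPeq, ea, eb, ec, hG] at hformula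
    have hnat : 64 * g₀ = 15 * cJ ^ 3 := by
      apply Nat.cast_injective (R := ℚ)
      norm_num at hformula ⊢
      linarith
    by_contra hB1
    have hB2' : B = 2 := by omega
    subst hB2'
    have h5 : 5 ∣ cJ := by
      have hp5 : Nat.Prime 5 := by norm_num
      have hd25 : 5 * 5 ∣ 5 * (3 * cJ ^ 3) := ⟨64 * 3 ^ A, by rw [hg₀def] at hnat; linarith⟩
      have h1 := (Nat.mul_dvd_mul_iff_left (by norm_num : 0 < 5)).1 hd25
      rcases hp5.dvd_mul.1 h1 with h | h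
      · norm_num at h
      · exact hp5.dvd_of_dvd_pow h
    obtain ⟨t, ht⟩ := h5
    have h625 : 5 ∣ 64 * 3 ^ A := ⟨15 * t ^ 3 * 1, by
      rw [hg₀def, ht] at hnat
      nlinarith⟩
    have hp5 : Nat.Prime 5 := by norm_num
    rcases hp5.dvd_mul.1 h625 with h | h
    · norm_num at h
    · exact absurd (hp5.dvd_of_dvd_pow h) (by norm_num)
  · exfalso
    obtain ⟨ea, ebc⟩ := degrees_three_seven hae (hj.trans hB2) hbe (hj'.trans hB2) hce
      (hk.trans hB2) ha4 hb4 hc4 he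
    have hp5 : Nat.Prime 5 := by norm_num
    have hbc10 : b + c = 10 := by omega
    have hnat : 120 * (4 * g₀ * cP ^ 2) = 1512 * cJ ^ 3 := by
      apply Nat.cast_injective (R := ℚ)
      have hbc : (b : ℚ) * c = 21 := by exact_mod_cast ebc
      have hbc' : (b : ℚ) + c = 10 := by exact_mod_cast hbc10
      have hden : ((b : ℚ) + (-1 : ℤ)) * ((c : ℚ) + (-1 : ℤ)) = 12 := by
        push_cast; linear_combination hbc - hbc'
      rw [hG, ea] at hformula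
      push_cast at hformula hden ⊢
      rw [mul_assoc (((9 : ℚ) + 1)), hden, mul_assoc (9 : ℚ), hbc] at hformula
      field_simp at hformula
      linarith
    have h5 : 5 ∣ 1512 * cJ ^ 3 := ⟨24 * (4 * g₀ * cP ^ 2), by omega⟩
    rcases hp5.dvd_mul.1 h5 with h | h
    · norm_num at h
    · have h1 : 5 ∣ 2 ^ 2 * g₀ := (hp5.dvd_of_dvd_pow h).trans
        (show cJ ∣ 2 ^ 2 * g₀ from hG ▸ Subgroup.card_subgroup_dvd_card _)
      rcases hp5.dvd_mul.1 h1 with h1 | h1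
      · norm_num at h1
      · have := prime_mem hq hr hp5 h1
        omega
  · exfalso
    refine degrees_five_seven hae hbe hce ?_ ha1 hb4 hc4 he
    rcases hAB with h | h
    · exact Or.inl (hi.trans h)
    · exact Or.inr ⟨hj'.trans h, hk.trans h⟩

end CfsgLib.SmallCofactor
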