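import Cfsg.Agent.S4500
import Cfsg.Agent.Lib.Invol.BrauerFowler
import Cfsg.Agent.Lib.SmallCofactor.DegThree
import Cfsg.Agent.Lib.SmallCofactor.Klein

/-!
# Simple groups of order `3 p^a q^b` or `4 p^a q^b` with `a ≤ 2`
-/

set_option autoImplicit false

namespace CfsgLib.SmallCofactor

open Subgroup

universe u

variable {G : Type u} [Group G] [Finite G]

theorem mul_comm_of_lt {n r : ℕ} [hr : Fact r.Prime] (hn : n < r) (hsmall : Blichfeldt.Small n G)
    (S : Subgroup G) (hS : IsPGroup r S) : IsMulCommutative S := by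
  obtain ⟨F, deg, hdeg, hsum, hf⟩ := (hsmall.subgroup S).exists_family
  refine ⟨⟨fun a b => mul_inv_eq_one.1 ?_⟩⟩
  rw [mul_inv_rev, ← mul_assoc]
  refine hf _ fun φ hφ => ?_
  have hle : deg φ ≤ n := le_trans (Finset.single_le_sum (fun _ _ => Nat.zero_le _) hφ) hsum
  have h1 : deg φ = 1 := by
    obtain ⟨k, hk⟩ := IsPGroup.iff_card.1 hS
    have h2 := CharTools.degree_dvd_card φ
    rw [Cfsg.charDegree, hdeg, Complex.natCast_re, Nat.floor_natCast, hk] at h2
    obtain ⟨j, -, hj⟩ := (Nat.dvd_prime_pow hr.out).1 h2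
    rcases j with _ | j
    · simpa using hj
    · have := Nat.le_self_pow (Nat.succ_ne_zero j) r
      rw [← hj] at this
      omega
  obtain ⟨f, hf'⟩ := Char.IsCharacter.exists_linear (Char.IsIrrCharacter.isCharacter φ.2)
    (by rw [hdeg, h1, Nat.cast_one])
  rw [hf', hf', map_one]
  simp only [map_mul, map_inv]
  rw [mul_comm (f a) (f b)]
  simp

/-- A faithful irreducible character of the wanted prime power degree. -/
theorem exists_faithful [IsSimpleGroup G] (hna : ¬ IsMulCommutative G) {p q a b s c : ℕ}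
    (hp : p.Prime) (hq : q.Prime) (hs : s.Prime) (hps : p ≠ s) (hpq : p ≠ q) (hsq : s ≠ q)
    (ha : a ≤ 2) (hG : Nat.card G = p ^ a * s ^ c * q ^ b) :
    ∃ χ : G → ℂ, Cfsg.IsCharacter G χ ∧ (∀ g : G, χ g = χ 1 → g = 1) ∧
      ∃ k, 1 ≤ k ∧ k ≤ c ∧ Cfsg.charDegree χ = s ^ k := by
  obtain ⟨χ, hne, k, hk⟩ :=
    Cfsg.Agent.S4500.exists_q_power p s q a c b hp hs hq hps hpq hsq ha hG
  refine ⟨χ, Char.IsIrrCharacter.isCharacter χ.2, faithful_of_ne_one χ hne, k, ?_, ?_, hk⟩
  · rcases k with _ | k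
    · exact absurd (by simpa using hk) (irr_degree_ne_one hna χ hne)
    · omega
  · have hd := CharTools.degree_dvd_card χ
    rw [hk, hG] at hd
    have h1 : Nat.Coprime (s ^ k) (p ^ a) := ((Nat.coprime_primes hs hp).2 hps.symm).pow k a
    have h2 : Nat.Coprime (s ^ k) (q ^ b) := ((Nat.coprime_primes hs hq).2 hsq).pow k b
    exact (Nat.pow_dvd_pow_iff_le_right hs.one_lt).1
      (h1.dvd_of_dvd_mul_left (h2.dvd_of_dvd_mul_right hd))

/-- The order `3 * 2 ^ i * r ^ y` with a small `2`-part. -/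
theorem three_small [IsSimpleGroup G] (hna : ¬ IsMulCommutative G) {i r y : ℕ} (hi : i ≤ 2)
    (hr : r = 5 ∨ r = 7) (hy : 1 ≤ y) (hG : Nat.card G = 3 * 2 ^ i * r ^ y) :
    Nonempty (G ≃* alternatingGroup (Fin 5)) := by
  haveI : Fact r.Prime := ⟨by rcases hr with rfl | rfl <;> norm_num⟩
  have hm : ¬ r ∣ 3 * 2 ^ i := by
    rcases hr with rfl | rfl <;> interval_cases i <;> norm_num
  have hG' : Nat.card G = r ^ y * (3 * 2 ^ i) := by rw [hG]; ring
  obtain ⟨hd, hmod, h1, hfac⟩ := SmallOrder.card_sylow_facts (p := r) hG' hm hy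
    (Nat.lt_of_lt_of_le (by norm_num) (Nat.le_mul_of_pos_right 3 (by positivity)))
  set n := Nat.card (Sylow r G)
  have hn12 : n ∣ 12 := hd.trans (by interval_cases i <;> norm_num)
  have hn : n = 6 ∧ r = 5 := by
    have := Nat.le_of_dvd (by norm_num) hn12
    rcases hr with rfl | rfl <;> interval_cases n <;> omega
  obtain ⟨hn6, rfl⟩ := hn
  rw [hn6] at hfac
  have hy1 : y = 1 := by
    by_contra hne
    have : 5 ^ 2 ∣ Nat.factorial 6 := ((pow_dvd_pow 5 (by omega : 2 ≤ y)).trans
      (Dvd.intro_left _ hG.symm)).trans (dvd_of_mul_left_dvd hfac)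
    norm_num [Nat.factorial] at this
  subst hy1
  interval_cases i <;> norm_num at hG
  · exact absurd hG (SmallOrder.card_ne_of_orderExcluded hna (by decide +kernel))
  · exact absurd hG (SmallOrder.card_ne_of_orderExcluded hna (by decide +kernel))
  · exact alternating_five hna hG

/-- The order `4 * 3 ^ x * r ^ y` with a small `3`-part. -/
theorem four_small [IsSimpleGroup G] (hna : ¬ IsMulCommutative G) {χ : G → ℂ}
    (hχ : Cfsg.IsCharacter G χ) (hf : ∀ g : G, χ g = χ 1 → g = 1) (h4 : Cfsg.charDegree χ = 4)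
    {x r y : ℕ} (hx : x ≤ 2) (hr : r = 5 ∨ r = 7) (hy : 1 ≤ y)
    (hG : Nat.card G = 4 * 3 ^ x * r ^ y) : Nonempty (G ≃* alternatingGroup (Fin 5)) := by
  haveI : Fact r.Prime := ⟨by rcases hr with rfl | rfl <;> norm_num⟩
  have hm : ¬ r ∣ 4 * 3 ^ x := by
    rcases hr with rfl | rfl <;> interval_cases x <;> norm_num
  have hG' : Nat.card G = r ^ y * (4 * 3 ^ x) := by rw [hG]; ring
  obtain ⟨hd, hmod, h1, hfac⟩ := SmallOrder.card_sylow_facts (p := r) hG' hm hy
    (Nat.lt_of_lt_of_le (by norm_num) (Nat.le_mul_of_pos_right 4 (by positivity)))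
  set n := Nat.card (Sylow r G) with hndef
  have hn36 : n ∣ 36 := hd.trans (by interval_cases x <;> norm_num)
  have hn : (n = 6 ∧ r = 5) ∨ n = 36 := by
    have := Nat.le_of_dvd (by norm_num) hn36
    rcases hr with rfl | rfl <;> interval_cases n <;> omega
  rcases hn with ⟨hn6, rfl⟩ | hn6
  · rw [hn6] at hfac
    have hy1 : y = 1 := by
      by_contra hne
      have : 5 ^ 2 ∣ Nat.factorial 6 := ((pow_dvd_pow 5 (by omega : 2 ≤ y)).trans
        (Dvd.intro_left _ hG.symm)).trans (dvd_of_mul_left_dvd hfac)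
      norm_num [Nat.factorial] at this
    subst hy1
    interval_cases x <;> norm_num at hG
    · exact absurd hG (SmallOrder.card_ne_of_orderExcluded hna (by decide +kernel))
    · exact alternating_five hna hG
    · exact absurd hG (SmallOrder.card_ne_of_orderExcluded hna (by decide +kernel))
  · exfalso
    rw [hn6] at hd
    have hx2 : x = 2 := by
      interval_cases x <;> revert hd <;> norm_num
    subst hx2
    obtain ⟨P⟩ := (inferInstance : Nonempty (Sylow r G))
    have hP := SmallOrder.card_sylow_eq hG' hm P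
    have hN := SmallOrder.card_normalizer_mul P
    rw [← hndef, hn6, hG'] at hN
    have hne : (P : Subgroup G) ≠ ⊤ := fun h => by
      rw [h, Subgroup.card_top, hG'] at hP
      have := Nat.pos_of_ne_zero (pow_ne_zero y (Fact.out : r.Prime).ne_zero)
      omega
    have hab := mul_comm_of_lt (n := 4) (by rcases hr with rfl | rfl <;> norm_num)
      (Blichfeldt.small_of_charDegree hχ hf h4) (P : Subgroup G) P.2
    refine SmallOrder.not_coprime_aut (hG' ▸ Dvd.dvd.mul_right (dvd_pow_self r (by omega)) _) P hne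
      hab (m := 1) ?_ (Nat.coprime_one_left _)
    rw [hP, mul_one]
    exact Nat.eq_of_mul_eq_mul_right (show 0 < 36 by norm_num) (hN.trans (by norm_num))

theorem isSolvable_two_primes {p q a b : ℕ} (hp : p.Prime) (hq : q.Prime)
    (hG : Nat.card G = p ^ a * q ^ b) : Group.IsSolvable G :=
  Char.isSolvable_of_card_eq_prime_pow_mul hp hq hG

theorem four_case [IsSimpleGroup G] (hna : ¬ IsMulCommutative G) {p q a b : ℕ} (hp : p.Prime)
    (hq : q.Prime) (hpq : p ≠ q) (ha : a ≤ 2) (hG : Nat.card G = 4 * p ^ a * q ^ b) :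
    Nonempty (G ≃* alternatingGroup (Fin 5)) := by
  have hns := not_isSolvable hna
  have hp2 : p ≠ 2 := fun h => hns (isSolvable_two_primes (a := a + 2) (b := b) Nat.prime_two hq
    (by rw [hG, h]; ring))
  have hq2 : q ≠ 2 := fun h => hns (isSolvable_two_primes (a := b + 2) (b := a) Nat.prime_two hp
    (by rw [hG, h]; ring))
  have ha0 : a ≠ 0 := fun h => hns (isSolvable_two_primes (a := 2) (b := b) Nat.prime_two hq
    (by rw [hG, h]; ring))
  have hb0 : b ≠ 0 := fun h => hns (isSolvable_two_primes (a := 2) (b := a) Nat.prime_two hp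
    (by rw [hG, h]; ring))
  obtain ⟨χ, hχ, hf, k, hk1, hk2, hk⟩ := exists_faithful hna hp hq Nat.prime_two hp2 hpq hq2.symm ha
    (c := 2) (b := b) (by rw [hG]; ring)
  have h4 : Cfsg.charDegree χ = 4 := by
    rcases (show k = 1 ∨ k = 2 by omega) with rfl | rfl
    · exact absurd hk (degree_ne_two hna ⟨2 * p ^ a * q ^ b, by rw [hG]; ring⟩ hχ hf)
    · rw [hk]; norm_num
  have hmem : ∀ r : ℕ, r.Prime → r ∣ Nat.card G → r ≠ 2 → r = 3 ∨ r = 5 ∨ r = 7 := by
    intro r hr hd hr2
    have h9 := prime_le hna hχ hf hr hd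
    rw [h4] at h9
    have := hr.two_le
    interval_cases r <;> revert hr hr2 <;> norm_num
  have hp357 := hmem p hp (hG ▸ Dvd.dvd.mul_right (Dvd.dvd.mul_left (dvd_pow_self p ha0) 4) _) hp2
  have hq357 := hmem q hq (hG ▸ Dvd.dvd.mul_left (dvd_pow_self q hb0) _) hq2
  -- `3` and one further prime
  have key3 : ∀ r x y : ℕ, (r = 5 ∨ r = 7) → 1 ≤ x → 1 ≤ y → (x ≤ 2 ∨ y ≤ 2) →
      Nat.card G = 4 * 3 ^ x * r ^ y → Nonempty (G ≃* alternatingGroup (Fin 5)) := by
    intro r x y hr hx hy hxy hG'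
    by_cases hx2 : x ≤ 2
    · exact four_small hna hχ hf h4 hx2 hr hy hG'
    · have hy2 : y ≤ 2 := hxy.resolve_left hx2
      obtain ⟨-, h5, hy1, ζ, hζ, h3⟩ := klein_main hna (q := 3) (r := r) (A := x) (B := y)
        (by rcases hr with rfl | rfl
            · exact Or.inl ⟨rfl, rfl, hy2⟩
            · exact Or.inr (Or.inl ⟨rfl, rfl, hy2⟩)) hx hy (by rw [hG']; ring)
      subst h5 hy1
      exact (false_of_case_four hna (Char.IsIrrCharacter.isCharacter ζ.2)
        (faithful_of_ne_one ζ hζ) h3 (x := x) (by omega) (by rw [hG', pow_one])).elim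
  rcases hp357 with rfl | hp57
  · exact key3 q a b (hq357.resolve_left hpq.symm) (by omega) (by omega) (Or.inl ha) hG
  rcases hq357 with rfl | hq57
  · exact key3 p b a hp57 (by omega) (by omega) (Or.inr ha) (by rw [hG]; ring)
  exfalso
  rcases hp57 with rfl | rfl <;> rcases hq57 with rfl | rfl
  · exact hpq rfl
  · have := (klein_main hna (q := 5) (r := 7) (A := a) (B := b) (Or.inr (Or.inr ⟨rfl, rfl, Or.inl ha⟩))
      (by omega) (by omega) (by rw [hG]; ring)).1
    omega
  · have := (klein_main hna (q := 5) (r := 7) (A := b) (B := a) (Or.inr (Or.inr ⟨rfl, rfl, Or.inr ha⟩))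
      (by omega) (by omega) (by rw [hG]; ring)).1
    omega
  · exact hpq rfl

theorem three_case [IsSimpleGroup G] (hna : ¬ IsMulCommutative G) {p q a b : ℕ} (hp : p.Prime)
    (hq : q.Prime) (hpq : p ≠ q) (ha : a ≤ 2) (hG : Nat.card G = 3 * p ^ a * q ^ b) :
    Nonempty (G ≃* alternatingGroup (Fin 5)) ∨
      Nonempty (G ≃* Matrix.ProjectiveSpecialLinearGroup (Fin 2) (ZMod 7)) := by
  have hns := not_isSolvable hna
  have hp3 : p ≠ 3 := fun h => hns (isSolvable_two_primes (a := a + 1) (b := b) Nat.prime_three hq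
    (by rw [hG, h]; ring))
  have hq3 : q ≠ 3 := fun h => hns (isSolvable_two_primes (a := b + 1) (b := a) Nat.prime_three hp
    (by rw [hG, h]; ring))
  have ha0 : a ≠ 0 := fun h => hns (isSolvable_two_primes (a := 1) (b := b) Nat.prime_three hq
    (by rw [hG, h]; ring))
  have hb0 : b ≠ 0 := fun h => hns (isSolvable_two_primes (a := 1) (b := a) Nat.prime_three hp
    (by rw [hG, h]; ring))
  obtain ⟨χ, hχ, hf, k, hk1, hk2, hk⟩ := exists_faithful hna hp hq Nat.prime_three hp3 hpq hq3.symm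
    ha (c := 1) (b := b) (by rw [hG]; ring)
  have h3 : Cfsg.charDegree χ = 3 := by rw [hk, show k = 1 by omega, pow_one]
  have hmem : ∀ r : ℕ, r.Prime → r ∣ Nat.card G → r ≠ 3 → r = 2 ∨ r = 5 ∨ r = 7 := by
    intro r hr hd hr3
    have h9 := prime_le hna hχ hf hr hd
    rw [h3] at h9
    have := hr.two_le
    interval_cases r <;> revert hr hr3 <;> norm_num
  have hp257 := hmem p hp (hG ▸ Dvd.dvd.mul_right (Dvd.dvd.mul_left (dvd_pow_self p ha0) 3) _) hp3
  have hq257 := hmem q hq (hG ▸ Dvd.dvd.mul_left (dvd_pow_self q hb0) _) hq3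
  rcases hp257 with rfl | hp57
  · exact Or.inl (three_small hna ha (hq257.resolve_left hpq.symm) (by omega) hG)
  rcases hq257 with rfl | hq57
  · by_cases hb : b ≤ 2
    · exact Or.inl (three_small hna hb hp57 (y := a) (by omega) (by rw [hG]; ring))
    · obtain ⟨rfl, rfl⟩ := eq_seven_of_case_three hna hχ hf h3 (i := b) (r := p) (y := a)
        (by omega) hp57 (by omega) (by rw [hG]; ring)
      refine Or.inr (psl_seven hna hχ hf h3 ⟨3 * 2 ^ b, by rw [hG]; ring⟩ (fun hd => ?_) ?_)
      · have h7 : Nat.Prime 7 := by norm_num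
        rw [hG, pow_one, pow_two, mul_comm 3 7, mul_assoc] at hd
        rcases h7.dvd_mul.1 (Nat.dvd_of_mul_dvd_mul_left (by norm_num) hd) with h | h
        · norm_num at h
        · exact absurd (h7.dvd_of_dvd_pow h) (by norm_num)
      · rw [hG]
        have := Nat.one_le_two_pow (n := b)
        omega
  -- odd order: the Hall subgroup for the primes above four is abelian of index three
  exfalso
  obtain ⟨H, hH⟩ := Blichfeldt.exists_bigHall (n := 3) (G := G)
    (Blichfeldt.small_of_charDegree hχ hf h3)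
  have hidx : H.index ∣ 3 := by
    have hd : H.index ∣ 3 * (p ^ a * q ^ b) := by
      rw [← mul_assoc, ← hG]; exact H.index_dvd_card
    have hcp : Nat.Coprime H.index (p ^ a * q ^ b) := by
      refine Nat.Coprime.mul_right ?_ ?_
      · refine (Nat.Coprime.pow_left a ((Nat.Prime.coprime_iff_not_dvd hp).2 (hH.2 p hp ?_))).symm
        rcases hp57 with rfl | rfl <;> norm_num
      · refine (Nat.Coprime.pow_left b ((Nat.Prime.coprime_iff_not_dvd hq).2 (hH.2 q hq ?_))).symm
        rcases hq57 with rfl | rfl <;> norm_num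
    exact hcp.dvd_of_dvd_mul_right hd
  have hne : H ≠ ⊤ := by
    intro h
    refine hna ⟨⟨fun x y => Blichfeldt.isBigHall_comm (Blichfeldt.small_of_charDegree hχ hf h3) hH.1
      (h ▸ Subgroup.mem_top x) (h ▸ Subgroup.mem_top y)⟩⟩
  have h6 : Nat.card G ∣ Nat.factorial 3 := by
    rcases (Nat.dvd_prime Nat.prime_three).1 hidx with h | h
    · exact absurd (Subgroup.index_eq_one.1 h) hne
    · exact h ▸ Invol.card_dvd_factorial_index hne
  have hp6 : p ∣ Nat.factorial 3 :=
    (hG ▸ Dvd.dvd.mul_right (Dvd.dvd.mul_left (dvd_pow_self p ha0) 3) _).trans h6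
  rcases hp57 with rfl | rfl <;> norm_num [Nat.factorial] at hp6

end CfsgLib.SmallCofactor
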